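import Groth.Agent.Lib.FinCov.Split

/-!
# Frames give free restrictions; the kernel of the trace
-/

universe u

open CategoryTheory Limits AlgebraicGeometry Opposite TopologicalSpace

namespace GrothLib.FinCov

variable {X : Scheme.{u}}

/-- The map from the structure sheaf given by a global section. -/
noncomputable def homOfSection {N : X.Modules} (s : Γ(N, ⊤)) : Coh.structureModule X ⟶ N :=
  N.unitHomEquiv.symm (PresheafOfModules.sectionsMk
    (fun V => N.presheaf.map (homOfLE (le_top : V.unop ≤ ⊤)).op s) (fun U V f => by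
      change N.presheaf.map f (N.presheaf.map _ s) = _
      rw [← ConcreteCategory.comp_apply, ← Functor.map_comp]; rfl))

theorem homOfSection_one {N : X.Modules} (s : Γ(N, ⊤)) (V : X.Opens) :
    (homOfSection s).app V (one X V) = N.presheaf.map (homOfLE (le_top : V ≤ ⊤)).op s :=
  congrArg (fun σ => σ.val (op V)) (N.unitHomEquiv.apply_symm_apply _)

theorem exists_iso_of_frame {M : X.Modules} {U : X.Opens} {n : ℕ} {e : Fin n → Γ(M, U)}
    (he : IsFrame M U e) : Nonempty (M.restrict U.ι ≅ FlatMod.freeMod (↑U) n) := by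
  classical
  let R := M.restrict U.ι
  let e' : Fin n → Γ(R, ⊤) := fun i =>
    M.presheaf.map (homOfLE (show U.ι ''ᵁ ⊤ ≤ U by simp [Scheme.Opens.ι_image_top])).op (e i)
  let Φ : FlatMod.freeMod (↑U) n ⟶ R := Sigma.desc fun i => homOfSection (e' i)
  suffices IsIso Φ from ⟨(asIso Φ).symm⟩
  rw [Scheme.Modules.Hom.isIso_iff_isIso_app]
  intro W
  have hW : U.ι ''ᵁ W ≤ U := by
    refine le_trans (Scheme.Hom.image_mono _ (le_top : W ≤ ⊤)) ?_
    simp [Scheme.Opens.ι_image_top]
  let F := FlatMod.freeMod (↑U) n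
  let C : Γ(F, W) → (Fin n → Γ(↑U, W)) := fun x i => (proj _ n i).app W x
  let ιm : ∀ _ : Fin n, Coh.structureModule (↑U) ⟶ F := fun i =>
    Sigma.ι (fun _ : Fin n => Coh.structureModule (↑U)) i
  have hC : Function.Bijective C := by
    refine Function.bijective_iff_has_inverse.2 ⟨fun c => ∑ i, (ιm i).app W (c i), fun x => ?_,
      fun c => funext fun j => ?_⟩
    · show ∑ i, (proj _ n i ≫ ιm i).app W x = x
      rw [← sum_app, sum_proj_ι]; rfl
    · show (proj _ n j).app W (∑ i, (ιm i).app W (c i)) = c j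
      rw [map_sum, Finset.sum_eq_single j]
      · show (ιm j ≫ proj _ n j).app W (c j) = c j
        rw [ι_proj, if_pos rfl]; rfl
      · intro i _ hi
        show (ιm i ≫ proj _ n j).app W (c i) = 0
        rw [ι_proj, if_neg hi]; rfl
      · simp
  have hΦ : ∀ x, Φ.app W x = ∑ i, (show Γ(X, U.ι ''ᵁ W) from C x i) • M.presheaf.map (homOfLE hW).op (e i) := by
    intro x
    have hx : x = ∑ i, (proj _ n i ≫ ιm i).app W x := by rw [← sum_app, sum_proj_ι]; rfl
    conv_lhs => rw [hx]
    rw [map_sum]
    refine Finset.sum_congr rfl fun i _ => ?_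
    have h1 : Φ.app W ((proj _ n i ≫ ιm i).app W x) = (homOfSection (e' i)).app W (C x i) := by
      show ((proj _ n i ≫ ιm i) ≫ Φ).app W x = _
      simp only [Φ, ιm, Category.assoc, Sigma.ι_desc]
      rfl
    rw [h1, ← smul_one W (C x i), Scheme.Modules.Hom.app_smul, homOfSection_one]
    show ((U.ι.appIso W).inv (C x i)) • (show Γ(M, U.ι ''ᵁ W) from M.presheaf.map _ (e' i)) = _
    rw [Scheme.Opens.ι_appIso]
    congr 1
    · exact (smul_one W (C x i)).symm
    · show M.presheaf.map _ (M.presheaf.map _ (e i)) = _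
      rw [← ConcreteCategory.comp_apply, ← Functor.map_comp]; rfl
  rw [ConcreteCategory.isIso_iff_bijective]
  have := (he _ hW).comp hC
  exact Eq.mpr (congrArg Function.Bijective (funext hΦ)) this

theorem isFinLocFreeOfRank_kernel (A : RelSpec.QCAlg X) (d : ℕ)
    (hA : FlatMod.IsFinLocFreeOfRank d A.toModule) {τ : A.toModule ⟶ Coh.structureModule X}
    (hτ : FinCov.IsTrace A τ) (hd : IsUnit ((d : Γ(X, ⊤)))) :
    FlatMod.IsFinLocFreeOfRank (d - 1) (kernel τ) := by
  classical
  have := isSplitEpi_trace A hA hτ hd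
  intro x
  obtain ⟨U, e, hxU, he⟩ := exists_frame_nhd_of_rank hA x
  obtain ⟨c, hc⟩ := (he U le_rfl).surjective ((A.str.app (op U)).hom 1)
  let t : Fin d → Γ(X, U) := fun i => τ.app U (e i)
  have hsum : ∑ i, c i * t i = (d : Γ(X, U)) := by
    have h1 := congrArg (τ.app U) hc
    simp only [map_sum] at h1
    rw [← nsmul_one d]
    refine Eq.trans (Finset.sum_congr rfl fun i _ => ?_) (h1.trans (app_trace_str A hA hτ U 1))
    refine Eq.trans ?_ (Scheme.Modules.Hom.app_smul τ (c i) _).symm
    have : A.toModule.presheaf.map (homOfLE (le_refl U)).op (e i) = e i := by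
      rw [show (homOfLE (le_refl U)).op = 𝟙 (op U) from rfl, CategoryTheory.Functor.map_id]; rfl
    rw [this]; rfl
  have hu : IsUnit (X.presheaf.germ U x hxU (d : Γ(X, U))) := (isUnit_natCast hd U).map _
  obtain ⟨j, hj⟩ : ∃ j, IsUnit (X.presheaf.germ U x hxU (t j)) := by
    by_contra hno
    push Not at hno
    rw [← hsum, map_sum] at hu
    exact (IsLocalRing.mem_maximalIdeal _).1 (Submodule.sum_mem _ fun i _ =>
      (by rw [map_mul]; exact Ideal.mul_mem_left _ _ ((IsLocalRing.mem_maximalIdeal _).2 (hno i)))) hu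
  obtain ⟨m, rfl⟩ : ∃ m, d = m + 1 := ⟨d - 1, by have := j.2; omega⟩
  let U' := X.basicOpen (t j)
  have hU' : U' ≤ U := X.basicOpen_le _
  obtain ⟨u, hu'⟩ : IsUnit (resO hU' (t j)) := RingedSpace.isUnit_res_basicOpen _ (t j)
  let r := fun i => A.toModule.presheaf.map (homOfLE hU').op (e i)
  let q : Fin m → Γ(X, U') := fun i => resO hU' (t (j.succAbove i)) * ↑u⁻¹
  let f : Fin m → Γ(A.toModule, U') := fun i => r (j.succAbove i) - q i • r j
  have hτr : ∀ i, τ.app U' (r i) = resO hU' (t i) := fun i =>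
    congr($(τ.mapPresheaf.naturality (homOfLE hU').op) (e i))
  have hf : ∀ i, τ.app U' (f i) = 0 := fun i => by
    rw [map_sub, Scheme.Modules.Hom.app_smul, hτr, hτr, ← hu']
    show (resO hU' (t (j.succAbove i)) : Γ(X, U')) - q i * (u : Γ(X, U')) = 0
    rw [mul_assoc, u.inv_mul, mul_one, sub_self]
  choose g hg using fun i => (kernel_app τ U').2 (f i) (hf i)
  refine ⟨U', by rw [Scheme.mem_basicOpen _ _ _ hxU]; exact hj, ?_⟩
  refine exists_iso_of_frame (e := g) fun V hV => ?_
  let inj := (kernel_app τ V).1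
  let b := he.basis V (hV.trans hU')
  have hres : ∀ i, A.toModule.presheaf.map (homOfLE hV).op (r i) = b i := fun i => by
    rw [IsFrame.basis_apply]
    show A.toModule.presheaf.map _ (A.toModule.presheaf.map _ (e i)) = _
    rw [← ConcreteCategory.comp_apply, ← Functor.map_comp]; rfl
  let q' : Fin m → Γ(X, V) := fun i => resO hV (q i)
  have key : ∀ cc : Fin m → Γ(X, V),
      (kernel.ι τ).app V (∑ i, cc i • (kernel τ).presheaf.map (homOfLE hV).op (g i)) =
        ∑ i, cc i • b (j.succAbove i) - (∑ i, cc i * q' i) • b j := by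
    intro cc
    rw [map_sum, Finset.sum_smul, ← Finset.sum_sub_distrib]
    refine Finset.sum_congr rfl fun i _ => ?_
    have h1 : (kernel.ι τ).app V ((kernel τ).presheaf.map (homOfLE hV).op (g i)) =
        A.toModule.presheaf.map (homOfLE hV).op (f i) :=
      (congr($((kernel.ι τ).mapPresheaf.naturality (homOfLE hV).op) (g i))).trans
        (congrArg (A.toModule.presheaf.map (homOfLE hV).op) (hg i))
    rw [Scheme.Modules.Hom.app_smul, h1, map_sub, Scheme.Modules.map_smul, hres, hres, smul_sub, smul_smul]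
  refine ⟨fun c₁ c₂ h12 => ?_, fun y => ?_⟩
  · have h0 := congrArg ((kernel.ι τ).app V) h12
    have h := (key c₁).symm.trans (h0.trans (key c₂))
    funext i
    have h' := congrArg (fun z => b.repr z (j.succAbove i)) h
    simpa [Finsupp.single_apply, Fin.succAbove_ne j i, (Fin.succAbove_ne j i).symm,
      Fin.succAbove_right_inj] using h'
  · let x' := (kernel.ι τ).app V y
    let cc : Fin m → Γ(X, V) := fun i => b.repr x' (j.succAbove i)
    refine ⟨cc, inj ?_⟩
    refine (key cc).trans ?_
    refine Eq.trans ?_ (b.sum_repr x')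
    have h0 : τ.app V x' = 0 := kernel_ι_app_zero τ V y
    rw [← b.sum_repr x', map_sum, Fin.sum_univ_succAbove _ j] at h0
    simp only [Scheme.Modules.Hom.app_smul] at h0
    have hτb : ∀ i, τ.app V (b i) = resO (hV.trans hU') (t i) := fun i => by
      rw [IsFrame.basis_apply]
      exact congr($(τ.mapPresheaf.naturality (homOfLE (hV.trans hU')).op) (e i))
    simp only [hτb] at h0
    let uV := Units.map (X.presheaf.map (homOfLE hV).op).hom.toMonoidHom u
    have huV : (uV : Γ(X, V)) = resO (hV.trans hU') (t j) := by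
      show resO hV (u : Γ(X, U')) = _
      rw [hu', resO_resO]
    have hq : ∀ i, q' i * (uV : Γ(X, V)) = resO (hV.trans hU') (t (j.succAbove i)) := fun i => by
      show resO hV (q i) * resO hV (u : Γ(X, U')) = _
      rw [resO, resO, ← map_mul, mul_assoc, u.inv_mul, mul_one]
      exact resO_resO hU' hV _
    have hcoef : b.repr x' j = -∑ i, cc i * q' i := by
      refine uV.isUnit.mul_right_cancel (eq_neg_of_add_eq_zero_left ?_ |>.trans (neg_mul _ _).symm)
      rw [Finset.sum_mul]
      refine Eq.trans ?_ h0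
      refine congrArg₂ (fun a b : Γ(X, V) => a + b) ?_ (Finset.sum_congr rfl fun i _ => ?_)
      · show b.repr x' j * (uV : Γ(X, V)) = _
        rw [huV]; rfl
      · show cc i * q' i * (uV : Γ(X, V)) = _
        rw [mul_assoc, hq]; rfl
    rw [Fin.sum_univ_succAbove _ j, hcoef, neg_smul, neg_add_eq_sub]

end GrothLib.FinCov
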