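import Groth.Prelude.Def_SecTwist
import Mathlib.AlgebraicGeometry.Modules.Sheaf

/-!
# Morphisms out of a tensor product from pairings on sections
-/

universe u

open CategoryTheory AlgebraicGeometry Opposite MonoidalCategory TensorProduct

namespace GrothLib.FinCov

variable {X : Scheme.{u}}

/-- A pairing on sections compatible with restrictions. -/
structure Pairing (M N P : X.Modules) where
  /-- the pairing -/
  f : ∀ U : X.Opens, Γ(M, U) → Γ(N, U) → Γ(P, U)
  add_left : ∀ U m m' n, f U (m + m') n = f U m n + f U m' n
  smul_left : ∀ (U : X.Opens) (r : Γ(X, U)) m n, f U (r • m) n = r • f U m n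
  add_right : ∀ U m n n', f U m (n + n') = f U m n + f U m n'
  smul_right : ∀ (U : X.Opens) (r : Γ(X, U)) m n, f U m (r • n) = r • f U m n
  map : ∀ {U V : X.Opens} (i : V ⟶ U) m n,
    P.presheaf.map i.op (f U m n) = f V (M.presheaf.map i.op m) (N.presheaf.map i.op n)

variable {M N P : X.Modules} (b : Pairing M N P)

/-- The morphism of presheaves of a pairing. -/
noncomputable def Pairing.pre : (CohB1.tensorPre M N : X.PresheafOfModules) ⟶
    (PresheafOfModules.restrictScalars (𝟙 X.ringCatSheaf.obj)).obj P.val where
  app U := ModuleCat.MonoidalCategory.tensorLift (R := Γ(X, U.unop))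
    (fun m n => b.f U.unop m n) (b.add_left _) (fun r m n => b.smul_left _ r m n)
    (b.add_right _) (fun r m n => b.smul_right _ r m n)
  naturality {U V} i := ModuleCat.MonoidalCategory.tensor_ext (fun m n => by
    exact (b.map i.unop m n).symm)

/-- The morphism out of the tensor product. -/
noncomputable def Pairing.hom : CohB1.tensorMod M N ⟶ P :=
  ((PresheafOfModules.sheafificationAdjunction (𝟙 X.ringCatSheaf.obj)).homEquiv _ _).symm b.pre

theorem Pairing.hom_tmul (U : X.Opens) (m : Γ(M, U)) (n : Γ(N, U)) :
    (b.hom.val.app (op U)).hom (SecTwist.tmul M N U m n) = b.f U m n := by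
  have h := Adjunction.homEquiv_unit (adj := PresheafOfModules.sheafificationAdjunction (𝟙 X.ringCatSheaf.obj))
    (f := b.hom)
  rw [Pairing.hom, Equiv.apply_symm_apply] at h
  exact (congr($(congrArg (fun φ => PresheafOfModules.Hom.app φ (op U)) h) (m ⊗ₜ n))).symm

end GrothLib.FinCov
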