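import Groth.Prelude.Def_FlatMod2
import Mathlib.AlgebraicGeometry.Modules.Sheaf
import Mathlib.LinearAlgebra.Basis.Defs

/-!
# Sectionwise bases of finite locally free modules
-/

universe u

open CategoryTheory Limits AlgebraicGeometry Opposite TopologicalSpace

namespace GrothLib.FinCov

variable {X : Scheme.{u}}

/-- The `i`-th projection of a finite free module. -/
noncomputable def proj (X : Scheme.{u}) (n : ℕ) (i : Fin n) :
    FlatMod.freeMod X n ⟶ Coh.structureModule X :=
  Sigma.desc fun j => if j = i then 𝟙 _ else 0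

theorem ι_proj (n : ℕ) (i j : Fin n) :
    Sigma.ι (fun _ : Fin n => Coh.structureModule X) j ≫ proj X n i = if j = i then 𝟙 _ else 0 :=
  Sigma.ι_desc _ _

theorem sum_proj_ι (n : ℕ) :
    ∑ i, proj X n i ≫ Sigma.ι (fun _ : Fin n => Coh.structureModule X) i = 𝟙 _ := by
  refine Sigma.hom_ext _ _ fun j => ?_
  rw [Preadditive.comp_sum, Finset.sum_eq_single j]
  · rw [← Category.assoc, ι_proj, if_pos rfl, Category.id_comp, Category.comp_id]
  · intro i _ hi
    rw [← Category.assoc, ι_proj, if_neg (Ne.symm hi), Limits.zero_comp]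
  · simp

theorem sum_app {M N : X.Modules} {ι : Type*} (s : Finset ι) (f : ι → (M ⟶ N)) (U : X.Opens)
    (x : Γ(M, U)) : (∑ i ∈ s, f i).app U x = ∑ i ∈ s, (f i).app U x := by
  classical
  induction s using Finset.induction_on with
  | empty => simp
  | insert a t ha ih => rw [Finset.sum_insert ha, Finset.sum_insert ha, ← ih]; rfl

/-- The identity function of a function ring seen as module sections. -/
abbrev one (X : Scheme.{u}) (U : X.Opens) : Γ(Coh.structureModule X, U) := (1 : Γ(X, U))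

theorem smul_one (U : X.Opens) (c : Γ(X, U)) : c • one X U = (c : Γ(Coh.structureModule X, U)) :=
  mul_one c

/-- A frame of a module over an open: sections restricting to bases on all smaller opens. -/
def IsFrame (M : X.Modules) (U : X.Opens) {n : ℕ} (e : Fin n → Γ(M, U)) : Prop :=
  ∀ (V : X.Opens) (h : V ≤ U),
    Function.Bijective fun c : Fin n → Γ(X, V) => ∑ i, c i • M.presheaf.map (homOfLE h).op (e i)

/-- The basis over a smaller open given by a frame. -/
noncomputable def IsFrame.basis {M : X.Modules} {U : X.Opens} {n : ℕ} {e : Fin n → Γ(M, U)}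
    (he : IsFrame M U e) (V : X.Opens) (h : V ≤ U) : Module.Basis (Fin n) Γ(X, V) Γ(M, V) :=
  let L : (Fin n → Γ(X, V)) →ₗ[Γ(X, V)] Γ(M, V) :=
    { toFun := fun c => ∑ i, c i • M.presheaf.map (homOfLE h).op (e i)
      map_add' := fun c d => by simp [add_smul, Finset.sum_add_distrib]
      map_smul' := fun r c => by simp [Finset.smul_sum, smul_smul] }
  Module.Basis.ofEquivFun (LinearEquiv.ofBijective L (he V h)).symm

theorem IsFrame.basis_apply {M : X.Modules} {U : X.Opens} {n : ℕ} {e : Fin n → Γ(M, U)}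
    (he : IsFrame M U e) (V : X.Opens) (h : V ≤ U) (i : Fin n) :
    he.basis V h i = M.presheaf.map (homOfLE h).op (e i) := by
  classical
  rw [IsFrame.basis, Module.Basis.coe_ofEquivFun]
  simp [Pi.single_apply]

theorem exists_frame_of_iso {M : X.Modules} {U : X.Opens} {n : ℕ}
    (φ : M.restrict U.ι ≅ FlatMod.freeMod (↑U) n) :
    ∃ e : Fin n → Γ(M, U.ι ''ᵁ ⊤), IsFrame M (U.ι ''ᵁ ⊤) e := by
  classical
  let R := M.restrict U.ι
  let ι' : ∀ i, Coh.structureModule (↑U) ⟶ R := fun i =>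
    Sigma.ι (fun _ : Fin n => Coh.structureModule (↑U)) i ≫ φ.inv
  let π' : ∀ i, R ⟶ Coh.structureModule (↑U) := fun i => φ.hom ≫ proj _ n i
  let e : Fin n → Γ(R, ⊤) := fun i => (ι' i).app ⊤ (one _ ⊤)
  refine ⟨e, fun V h => ?_⟩
  obtain ⟨W, rfl⟩ : ∃ W : U.toScheme.Opens, U.ι ''ᵁ W = V := by
    refine ⟨U.ι ⁻¹ᵁ V, ?_⟩
    rw [Scheme.Hom.image_preimage_eq_opensRange_inf, Scheme.Opens.opensRange_ι]
    exact inf_eq_right.2 (h.trans (by simp [Scheme.Opens.ι_image_top]))
  have heq : ∀ i, M.presheaf.map (homOfLE h).op (e i) = (ι' i).app W (one _ W) := by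
    intro i
    have hn := congr($((ι' i).mapPresheaf.naturality (homOfLE (le_top : W ≤ ⊤)).op) (one _ ⊤))
    have h1 : (Coh.structureModule (↑U)).presheaf.map (homOfLE (le_top : W ≤ ⊤)).op (one _ ⊤) = one _ W :=
      map_one ((U.toScheme.presheaf.map (homOfLE (le_top : W ≤ ⊤)).op).hom)
    rw [← h1]
    exact hn.symm
  let F : (Fin n → Γ(↑U, W)) → Γ(R, W) := fun c => ∑ i, c i • (ι' i).app W (one _ W)
  have hF : ∀ c, F c = ∑ i, (ι' i).app W (c i) := fun c => Finset.sum_congr rfl fun i _ => by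
    rw [← Scheme.Modules.Hom.app_smul, smul_one]
  have key : Function.Bijective F := by
    rw [show F = fun c => ∑ i, (ι' i).app W (c i) from funext hF]
    refine Function.bijective_iff_has_inverse.2 ⟨fun x i => (π' i).app W x, fun c => funext fun j => ?_, fun x => ?_⟩
    · show (π' j).app W (∑ i, (ι' i).app W (c i)) = c j
      rw [map_sum, Finset.sum_eq_single j]
      · show ((ι' j) ≫ (π' j)).app W (c j) = c j
        simp only [ι', π', Category.assoc, φ.inv_hom_id_assoc, ι_proj, if_true]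
        rfl
      · intro i _ hi
        show ((ι' i) ≫ (π' j)).app W (c i) = 0
        simp only [ι', π', Category.assoc, φ.inv_hom_id_assoc, ι_proj, if_neg hi]
        rfl
      · simp
    · show ∑ i, ((π' i) ≫ (ι' i)).app W x = x
      rw [← sum_app]
      have : ∑ i, π' i ≫ ι' i = 𝟙 R := by
        simp only [ι', π', Category.assoc]
        rw [← Preadditive.comp_sum]
        simp only [← Category.assoc]
        rw [← Preadditive.sum_comp, sum_proj_ι, Category.id_comp, φ.hom_inv_id]
      rw [this]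
      rfl
  simp only [heq]
  refine Eq.mpr (congrArg (Function.Bijective (α := Fin n → Γ(↑U, W)) (β := Γ(R, W)))
    (funext fun c => ?_)) key
  refine Finset.sum_congr rfl fun i _ => ?_
  show c i • (show Γ(M, U.ι ''ᵁ W) from (ι' i).app W (one _ W)) =
    ((U.ι.appIso W).inv (c i)) • (show Γ(M, U.ι ''ᵁ W) from (ι' i).app W (one _ W))
  rw [Scheme.Opens.ι_appIso]
  rfl

theorem exists_frame_nhd {M : X.Modules} (hM : FlatMod.IsFinLocFree M) (x : X) :
    ∃ (U : X.Opens) (n : ℕ) (e : Fin n → Γ(M, U)), x ∈ U ∧ IsFrame M U e := by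
  obtain ⟨U, n, hx, ⟨φ⟩⟩ := hM x
  obtain ⟨e, he⟩ := exists_frame_of_iso φ
  exact ⟨_, n, e, by rw [Scheme.Opens.ι_image_top]; exact hx, he⟩

theorem exists_frame_nhd_of_rank {M : X.Modules} {n : ℕ} (hM : FlatMod.IsFinLocFreeOfRank n M) (x : X) :
    ∃ (U : X.Opens) (e : Fin n → Γ(M, U)), x ∈ U ∧ IsFrame M U e := by
  obtain ⟨U, hx, ⟨φ⟩⟩ := hM x
  obtain ⟨e, he⟩ := exists_frame_of_iso φ
  exact ⟨_, e, by rw [Scheme.Opens.ι_image_top]; exact hx, he⟩

theorem isFinLocFree_of_rank {M : X.Modules} {n : ℕ} (hM : FlatMod.IsFinLocFreeOfRank n M) :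
    FlatMod.IsFinLocFree M := fun x => let ⟨U, hx, h⟩ := hM x; ⟨U, n, hx, h⟩

end GrothLib.FinCov
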