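import Groth.Prelude.Def_FinCov
import Groth.Agent.Lib.FinCov.Frame
import Mathlib.RingTheory.Localization.NormTrace
import Mathlib.AlgebraicGeometry.AffineScheme

/-!
# The trace of a finite locally free quasi-coherent algebra
-/

universe u

open CategoryTheory Limits AlgebraicGeometry Opposite TopologicalSpace

namespace GrothLib.FinCov

variable {X : Scheme.{u}} (A : RelSpec.QCAlg X)

/-- The algebra structure of the sections. -/
@[reducible] noncomputable def alg (U : X.Opens) : Algebra Γ(X, U) (A.presheaf.obj (op U)) :=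
  (A.str.app (op U)).hom.toAlgebra

/-- Affine opens on which the algebra is finite free. -/
def Good (U : X.Opens) : Prop :=
  letI := alg A U
  IsAffineOpen U ∧ Module.Free Γ(X, U) (A.presheaf.obj (op U)) ∧
    Module.Finite Γ(X, U) (A.presheaf.obj (op U))

/-- The trace on sections. -/
noncomputable def tr (U : X.Opens) (a : A.presheaf.obj (op U)) : Γ(X, U) :=
  letI := alg A U
  Algebra.trace Γ(X, U) (A.presheaf.obj (op U)) a

/-- Restriction of functions. -/
abbrev resO {U V : X.Opens} (h : V ≤ U) (s : Γ(X, U)) : Γ(X, V) := X.presheaf.map (homOfLE h).op s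

/-- Restriction of sections of the algebra. -/
abbrev resA {U V : X.Opens} (h : V ≤ U) (a : A.presheaf.obj (op U)) : A.presheaf.obj (op V) :=
  A.presheaf.map (homOfLE h).op a

theorem resO_resO {U V W : X.Opens} (h : V ≤ U) (h' : W ≤ V) (s : Γ(X, U)) :
    resO h' (resO h s) = resO (h'.trans h) s := by
  rw [resO, resO, ← CommRingCat.comp_apply, ← Functor.map_comp]; rfl

theorem resA_resA {U V W : X.Opens} (h : V ≤ U) (h' : W ≤ V) (a : A.presheaf.obj (op U)) :
    resA A h' (resA A h a) = resA A (h'.trans h) a := by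
  rw [resA, resA, ← CommRingCat.comp_apply, ← Functor.map_comp]; rfl

theorem resA_str {U V : X.Opens} (h : V ≤ U) (s : Γ(X, U)) :
    resA A h ((A.str.app (op U)).hom s) = (A.str.app (op V)).hom (resO h s) :=
  (congr($(A.str.naturality (homOfLE h).op) s)).symm

/-- Trace commutes with restriction to basic opens. -/
theorem good_basicOpen {U : X.Opens} (hU : Good A U) (r : Γ(X, U)) :
    Good A (X.basicOpen r) ∧ ∀ a, tr A (X.basicOpen r) (resA A (X.basicOpen_le r) a) =
      resO (X.basicOpen_le r) (tr A U a) := by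
  obtain ⟨hUa, hfree, hfin⟩ := hU
  let D := X.basicOpen r
  let h := X.basicOpen_le r
  let R := Γ(X, U)
  let Rr := Γ(X, D)
  let S := A.presheaf.obj (op U)
  let Sr := A.presheaf.obj (op D)
  letI i1 : Algebra R S := alg A U
  letI i2 : Algebra Rr Sr := alg A D
  letI i3 : Algebra R Rr := (X.presheaf.map (homOfLE h).op).hom.toAlgebra
  letI i4 : Algebra S Sr := (A.presheaf.map (homOfLE h).op).hom.toAlgebra
  letI i5 : Algebra R Sr := ((A.presheaf.map (homOfLE h).op).hom.comp (A.str.app (op U)).hom).toAlgebra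
  haveI : IsScalarTower R S Sr := IsScalarTower.of_algebraMap_eq fun _ => rfl
  haveI : IsScalarTower R Rr Sr := IsScalarTower.of_algebraMap_eq fun x => resA_str A h x
  haveI hR : IsLocalization.Away r Rr := hUa.isLocalization_basicOpen r
  haveI hS : IsLocalization.Away (algebraMap R S r) Sr := A.isQC U hUa r
  haveI : IsLocalization (Submonoid.powers r) Rr := hR
  haveI : IsLocalization (Algebra.algebraMapSubmonoid S (Submonoid.powers r)) Sr := by
    rw [Algebra.algebraMapSubmonoid_powers]; exact hS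
  haveI : Module.Free R S := hfree
  haveI : Module.Finite R S := hfin
  haveI : IsLocalizedModule (Submonoid.powers r) (IsScalarTower.toAlgHom R S Sr).toLinearMap :=
    isLocalizedModule_iff_isLocalization.2 ‹_›
  refine ⟨⟨hUa.basicOpen r, ?_, ?_⟩, fun a => ?_⟩
  · exact Module.Free.of_basis ((Module.Free.chooseBasis R S).ofIsLocalizedModule Rr (Submonoid.powers r)
      (IsScalarTower.toAlgHom R S Sr).toLinearMap)
  · exact Module.Finite.of_isLocalizedModule (Submonoid.powers r) (Rₚ := Rr)
      (f := (IsScalarTower.toAlgHom R S Sr).toLinearMap)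
  · exact Algebra.trace_localization R (Rₘ := Rr) (Submonoid.powers r) (Sₘ := Sr) a

theorem tr_res_congr {U W W' : X.Opens} (e : W = W') (k : W ≤ U) (k' : W' ≤ U)
    (a : A.presheaf.obj (op U)) (h : tr A W' (resA A k' a) = resO k' (tr A U a)) :
    tr A W (resA A k a) = resO k (tr A U a) := by
  subst e; exact h

theorem tr_eq_on_inter {U₁ U₂ : X.Opens} (h₁ : Good A U₁) (h₂ : Good A U₂) {x : X} (hx₁ : x ∈ U₁)
    (hx₂ : x ∈ U₂) : ∃ (W : X.Opens) (k₁ : W ≤ U₁) (k₂ : W ≤ U₂), x ∈ W ∧
      ∀ (a₁ : A.presheaf.obj (op U₁)) (a₂ : A.presheaf.obj (op U₂)), resA A k₁ a₁ = resA A k₂ a₂ →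
        resO k₁ (tr A U₁ a₁) = resO k₂ (tr A U₂ a₂) := by
  obtain ⟨r, s, hrs, hx⟩ := exists_basicOpen_le_affine_inter h₁.1 h₂.1 x ⟨hx₁, hx₂⟩
  refine ⟨X.basicOpen r, X.basicOpen_le r, hrs ▸ X.basicOpen_le s, hx, fun a₁ a₂ e => ?_⟩
  rw [← (good_basicOpen A h₁ r).2 a₁, e]
  exact tr_res_congr A hrs _ (X.basicOpen_le s) a₂ ((good_basicOpen A h₂ s).2 a₂)

theorem exists_good_le (hA : FlatMod.IsFinLocFree A.toModule) {V : X.Opens} {x : X} (hx : x ∈ V) :
    ∃ W ≤ V, x ∈ W ∧ Good A W := by
  obtain ⟨U, n, e, hxU, he⟩ := exists_frame_nhd hA x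
  obtain ⟨_, ⟨W, hW, rfl⟩, hxW, hWUV⟩ :=
    X.isBasis_affineOpens.exists_subset_of_mem_open (show x ∈ U ⊓ V from ⟨hxU, hx⟩) (U ⊓ V).2
  have hWU : W ≤ U := fun y hy => (hWUV hy).1
  refine ⟨W, fun y hy => (hWUV hy).2, hxW, hW, ?_, ?_⟩
  · exact @Module.Free.of_basis Γ(X, W) Γ(A.toModule, W) _ _ _ _ (he.basis W hWU)
  · exact @Module.Finite.of_basis Γ(X, W) Γ(A.toModule, W) _ _ _ _ _ (he.basis W hWU)

/-- Functions agreeing near every point are equal. -/
theorem eq_of_cover {V : X.Opens} {s t : Γ(X, V)}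
    (h : ∀ x ∈ V, ∃ (W : X.Opens) (k : W ≤ V), x ∈ W ∧ resO k s = resO k t) : s = t := by
  choose W k hxW he using h
  exact X.sheaf.eq_of_locally_eq' (fun x : V => W x.1 x.2) V (fun x => homOfLE (k x.1 x.2))
    (fun y hy => Opens.mem_iSup.2 ⟨⟨y, hy⟩, hxW y hy⟩) s t fun x => he x.1 x.2

theorem existsUnique_trace (hA : FlatMod.IsFinLocFree A.toModule) (V : X.Opens) (a : A.presheaf.obj (op V)) :
    ∃! t : Γ(X, V), ∀ (W : X.Opens) (k : W ≤ V), Good A W → resO k t = tr A W (resA A k a) := by
  classical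
  let ι := {W : X.Opens // W ≤ V ∧ Good A W}
  have hcov : V ≤ iSup fun W : ι => W.1 := fun x hx => by
    obtain ⟨W, hWV, hxW, hW⟩ := exists_good_le A hA hx
    exact Opens.mem_iSup.2 ⟨⟨W, hWV, hW⟩, hxW⟩
  obtain ⟨t, ht, -⟩ := X.sheaf.existsUnique_gluing' (fun W : ι => W.1) V (fun W => homOfLE W.2.1) hcov
    (fun W : ι => tr A W.1 (resA A W.2.1 a)) (by
      intro W₁ W₂
      refine eq_of_cover fun x hx => ?_
      obtain ⟨W, k₁, k₂, hxW, hW⟩ := tr_eq_on_inter A W₁.2.2 W₂.2.2 hx.1 hx.2
      refine ⟨W, le_inf k₁ k₂, hxW, ?_⟩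
      exact (resO_resO inf_le_left _ _).trans ((hW _ _ (by rw [resA_resA, resA_resA])).trans
        (resO_resO inf_le_right _ _).symm))
  refine ⟨t, fun W k hW => ht ⟨W, k, hW⟩, fun s hs => eq_of_cover fun x hx => ?_⟩
  obtain ⟨W, hWV, hxW, hW⟩ := exists_good_le A hA hx
  exact ⟨W, hWV, hxW, (hs W hWV hW).trans (ht ⟨W, hWV, hW⟩).symm⟩

/-- The value of the trace on a section. -/
noncomputable def T (hA : FlatMod.IsFinLocFree A.toModule) (V : X.Opens) (a : A.presheaf.obj (op V)) :
    Γ(X, V) := Classical.choose (existsUnique_trace A hA V a).exists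

theorem T_spec (hA : FlatMod.IsFinLocFree A.toModule) {V : X.Opens} (a : A.presheaf.obj (op V))
    {W : X.Opens} (k : W ≤ V) (hW : Good A W) : resO k (T A hA V a) = tr A W (resA A k a) :=
  Classical.choose_spec (existsUnique_trace A hA V a).exists W k hW

theorem T_eq (hA : FlatMod.IsFinLocFree A.toModule) {V : X.Opens} (a : A.presheaf.obj (op V)) (t : Γ(X, V))
    (h : ∀ (W : X.Opens) (k : W ≤ V), Good A W → resO k t = tr A W (resA A k a)) : T A hA V a = t :=
  (existsUnique_trace A hA V a).unique (fun _ k hW => T_spec A hA a k hW) h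

theorem tr_add (W : X.Opens) (a b : A.presheaf.obj (op W)) : tr A W (a + b) = tr A W a + tr A W b := by
  let := alg A W
  exact map_add _ _ _

theorem tr_str_mul (W : X.Opens) (r : Γ(X, W)) (a : A.presheaf.obj (op W)) :
    tr A W ((A.str.app (op W)).hom r * a) = r * tr A W a := by
  let := alg A W
  exact (Algebra.trace Γ(X, W) (A.presheaf.obj (op W))).map_smul r a

/-- The trace, as a morphism of modules. -/
noncomputable def traceHom (hA : FlatMod.IsFinLocFree A.toModule) : A.toModule ⟶ Coh.structureModule X :=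
  ⟨letI := A.moduleSect
   PresheafOfModules.homMk
    { app := fun V => AddCommGrpCat.ofHom <| AddMonoidHom.mk' (fun a => T A hA V.unop a) fun a b => by
        refine T_eq A hA _ _ fun W k hW => ?_
        exact ((map_add _ _ _).trans (congrArg₂ (· + ·) (T_spec A hA a k hW) (T_spec A hA b k hW))).trans
          ((tr_add A W _ _).symm.trans (congrArg (tr A W) (map_add _ _ _).symm))
      naturality := fun U V i => by
        ext a
        refine T_eq A hA _ _ fun W k hW => ?_
        have := T_spec A hA a (k.trans i.unop.le) hW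
        exact ((resO_resO i.unop.le k _).trans this).trans (congrArg (tr A W) (resA_resA A i.unop.le k a).symm) }
    (fun V r a => by
      refine T_eq A hA _ _ fun W k hW => ?_
      have e := T_spec A hA a k hW
      refine (map_mul (X.presheaf.map (homOfLE k).op).hom r (T A hA V.unop a)).trans ?_
      refine ((congrArg (resO k r * ·) e).trans (tr_str_mul A W _ _).symm).trans (congrArg (tr A W) ?_)
      exact ((map_mul (A.presheaf.map (homOfLE k).op).hom _ _).trans
        (congrArg (· * resA A k a) (resA_str A k r))).symm)⟩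

theorem isTrace_traceHom (hA : FlatMod.IsFinLocFree A.toModule) : FinCov.IsTrace A (traceHom A hA) := by
  intro U hU hfree hfin a
  show T A hA U a = tr A U a
  refine T_eq A hA a _ fun W k hW => ?_
  refine eq_of_cover fun x hx => ?_
  obtain ⟨W', k₁, k₂, hxW, hW'⟩ := tr_eq_on_inter A (⟨hU, hfree, hfin⟩ : Good A U) hW (k hx) hx
  exact ⟨W', k₂, hxW, (resO_resO k k₂ _).trans (hW' a (resA A k a) (resA_resA A k k₂ a).symm)⟩

theorem app_res {M : X.Modules} (f : A.toModule ⟶ M) {U V : X.Opens} (k : V ≤ U) (a : A.presheaf.obj (op U)) :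
    M.presheaf.map (homOfLE k).op (f.app U a) = f.app V (resA A k a) :=
  (congr($(f.mapPresheaf.naturality (homOfLE k).op) a)).symm

theorem isTrace_app {τ : A.toModule ⟶ Coh.structureModule X} (hτ : FinCov.IsTrace A τ)
    (hA : FlatMod.IsFinLocFree A.toModule) (V : X.Opens) (a : A.presheaf.obj (op V)) :
    (τ.val.app (op V)).hom a = T A hA V a := by
  refine (T_eq A hA a _ fun W k hW => ?_).symm
  exact (app_res A τ k a).trans (hτ W hW.1 hW.2.1 hW.2.2 _)

end GrothLib.FinCov
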