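import Groth.Agent.Lib.FinCov.Trace

/-!
# Unit rank splits the trace
-/

universe u

open CategoryTheory Limits AlgebraicGeometry Opposite TopologicalSpace

namespace GrothLib.FinCov

variable {X : Scheme.{u}} (A : RelSpec.QCAlg X)

theorem exists_basis_le {d : ℕ} (hA : FlatMod.IsFinLocFreeOfRank d A.toModule) {V : X.Opens} {x : X}
    (hx : x ∈ V) : ∃ (W : X.Opens) (_ : W ≤ V), x ∈ W ∧ Good A W ∧
      (letI := alg A W; Nonempty (Module.Basis (Fin d) Γ(X, W) (A.presheaf.obj (op W)))) := by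
  obtain ⟨U, e, hxU, he⟩ := exists_frame_nhd_of_rank hA x
  obtain ⟨_, ⟨W, hW, rfl⟩, hxW, hWUV⟩ :=
    X.isBasis_affineOpens.exists_subset_of_mem_open (show x ∈ U ⊓ V from ⟨hxU, hx⟩) (U ⊓ V).2
  have hWU : W ≤ U := fun y hy => (hWUV hy).1
  exact ⟨W, fun y hy => (hWUV hy).2, hxW,
    ⟨hW, @Module.Free.of_basis Γ(X, W) Γ(A.toModule, W) _ _ _ _ (he.basis W hWU),
      @Module.Finite.of_basis Γ(X, W) Γ(A.toModule, W) _ _ _ _ _ (he.basis W hWU)⟩,
    ⟨he.basis W hWU⟩⟩

theorem app_trace_str {d : ℕ} (hA : FlatMod.IsFinLocFreeOfRank d A.toModule)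
    {τ : A.toModule ⟶ Coh.structureModule X} (hτ : FinCov.IsTrace A τ) (V : X.Opens) (s : Γ(X, V)) :
    ((τ.val.app (op V)).hom ((A.str.app (op V)).hom s) : Γ(X, V)) = d • s := by
  have hA' := isFinLocFree_of_rank hA
  rw [isTrace_app A hτ hA' V]
  refine eq_of_cover fun x hx => ?_
  obtain ⟨W, k, hxW, hW, ⟨b⟩⟩ := exists_basis_le A hA hx
  refine ⟨W, k, hxW, ?_⟩
  rw [T_spec A hA' _ k hW, resA_str A k s]
  let := alg A W
  refine (Algebra.trace_algebraMap_of_basis b (resO k s)).trans ?_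
  rw [Fintype.card_fin]
  exact (map_nsmul (X.presheaf.map (homOfLE k).op).hom d s).symm

theorem strMod_comp_trace {d : ℕ} (hA : FlatMod.IsFinLocFreeOfRank d A.toModule)
    {τ : A.toModule ⟶ Coh.structureModule X} (hτ : FinCov.IsTrace A τ) :
    FinCov.strMod A ≫ τ = d • 𝟙 (Coh.structureModule X) := by
  refine Scheme.Modules.hom_ext _ _ fun U => ?_
  ext s
  refine (app_trace_str A hA hτ U s).trans ?_
  have : ∀ n : ℕ, (n • 𝟙 (Coh.structureModule X)).app U s = (n • s : Γ(Coh.structureModule X, U)) := by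
    intro n
    induction n with
    | zero => simp
    | succ n ih => rw [succ_nsmul, succ_nsmul, ← ih]; rfl
  exact (this d).symm

theorem isUnit_natCast {d : ℕ} (hd : IsUnit ((d : Γ(X, ⊤)))) (U : X.Opens) : IsUnit ((d : Γ(X, U))) := by
  simpa using hd.map (X.presheaf.map (homOfLE (le_top : U ≤ ⊤)).op).hom

theorem isIso_nsmul_id {d : ℕ} (hd : IsUnit ((d : Γ(X, ⊤)))) : IsIso (d • 𝟙 (Coh.structureModule X)) := by
  rw [Scheme.Modules.Hom.isIso_iff_isIso_app]
  intro U
  have : ∀ (n : ℕ) (s : Γ(X, U)), ((n • 𝟙 (Coh.structureModule X)).app U s : Γ(X, U)) = (n : Γ(X, U)) * s := by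
    intro n s
    induction n with
    | zero => simp; rfl
    | succ n ih => rw [succ_nsmul, Nat.cast_succ, add_mul, one_mul, ← ih]; rfl
  rw [ConcreteCategory.isIso_iff_bijective]
  obtain ⟨u, hu⟩ := isUnit_natCast hd U
  refine ⟨fun a b e => ?_, fun b => ⟨(↑u⁻¹ * (show Γ(X, U) from b) : Γ(X, U)), ?_⟩⟩
  · have := (this d a).symm.trans ((congrArg _ rfl).trans (e.trans (this d b)))
    rw [← hu] at this
    exact u.isUnit.mul_left_cancel this
  · refine (this d _).trans ?_
    rw [← hu, ← mul_assoc, u.mul_inv, one_mul]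

theorem isSplitEpi_trace {d : ℕ} (hA : FlatMod.IsFinLocFreeOfRank d A.toModule)
    {τ : A.toModule ⟶ Coh.structureModule X} (hτ : FinCov.IsTrace A τ) (hd : IsUnit ((d : Γ(X, ⊤)))) :
    IsSplitEpi τ := by
  have := isIso_nsmul_id hd
  exact ⟨⟨inv (d • 𝟙 (Coh.structureModule X)) ≫ FinCov.strMod A,
    by rw [Category.assoc, strMod_comp_trace A hA hτ, IsIso.inv_hom_id]⟩⟩

section Kernel

variable {M : X.Modules} (τ : M ⟶ Coh.structureModule X)

theorem kernel_ι_app_zero (U : X.Opens) (y : Γ(kernel τ, U)) : τ.app U ((kernel.ι τ).app U y) = 0 :=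
  congr($(congrArg (fun f => Scheme.Modules.Hom.app f U) (kernel.condition τ)) y)

theorem kernel_app [IsSplitEpi τ] (U : X.Opens) :
    Function.Injective ((kernel.ι τ).app U) ∧
      ∀ x : Γ(M, U), τ.app U x = 0 → ∃ y, (kernel.ι τ).app U y = x := by
  let r : M ⟶ kernel τ := kernel.lift τ (𝟙 M - τ ≫ section_ τ)
    (by rw [Preadditive.sub_comp, Category.id_comp, Category.assoc, IsSplitEpi.id, Category.comp_id, sub_self])
  have hr : r ≫ kernel.ι τ = 𝟙 M - τ ≫ section_ τ := kernel.lift_ι _ _ _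
  have hl : kernel.ι τ ≫ r = 𝟙 _ := by
    rw [← cancel_mono (kernel.ι τ), Category.assoc, hr, Preadditive.comp_sub, Category.comp_id,
      kernel.condition_assoc, Limits.zero_comp, sub_zero, Category.id_comp]
  refine ⟨fun a b e => ?_, fun x hx => ⟨r.app U x, ?_⟩⟩
  · have := congrArg (r.app U) e
    have h2 : ∀ c, r.app U ((kernel.ι τ).app U c) = c := fun c =>
      congr($(congrArg (fun f => Scheme.Modules.Hom.app f U) hl) c)
    rwa [h2, h2] at this
  · have h2 : (kernel.ι τ).app U (r.app U x) = x - (section_ τ).app U (τ.app U x) :=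
      congr($(congrArg (fun f => Scheme.Modules.Hom.app f U) hr) x)
    rw [h2, hx, map_zero, sub_zero]

end Kernel

end GrothLib.FinCov
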