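import Groth.Agent.Lib.FinCov.FrameFree
import Groth.Agent.Lib.FinCov.Bilinear
import Groth.Prelude.Def_Pic
import Mathlib.LinearAlgebra.Matrix.Charpoly.Coeff
import Mathlib.RingTheory.Trace.Basic

/-!
# Rank two algebras and the trace
-/

universe u

open CategoryTheory Limits AlgebraicGeometry Opposite TopologicalSpace

namespace GrothLib.FinCov

/-- In a free algebra of rank two, a product of two traceless elements is half its trace. -/
theorem two_mul_of_trace_eq_zero {R S : Type*} [CommRing R] [CommRing S] [Algebra R S]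
    (b : Module.Basis (Fin 2) R S) (h2 : IsUnit (2 : R)) {x y : S}
    (hx : Algebra.trace R S x = 0) (hy : Algebra.trace R S y = 0) :
    2 * (x * y) = algebraMap R S (Algebra.trace R S (x * y)) := by
  have sq : ∀ z : S, Algebra.trace R S z = 0 → 2 * (z * z) = algebraMap R S (Algebra.trace R S (z * z)) := by
    intro z hz
    apply Algebra.leftMulMatrix_injective b
    rw [AlgHom.commutes, two_mul, map_add, Algebra.trace_eq_matrix_trace b, map_mul]
    rw [Algebra.trace_eq_matrix_trace b, Matrix.trace_fin_two] at hz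
    set M := Algebra.leftMulMatrix b z
    have h11 : M 1 1 = -M 0 0 := eq_neg_of_add_eq_zero_right hz
    ext i j
    fin_cases i <;> fin_cases j <;>
      simp [Matrix.mul_apply, Fin.sum_univ_two, Matrix.trace_fin_two, h11, Matrix.algebraMap_matrix_apply] <;>
      ring
  have hxy := sq (x + y) (by rw [map_add, hx, hy, add_zero])
  have e : (x + y) * (x + y) = x * x + y * y + 2 * (x * y) := by ring
  rw [e, mul_add, mul_add, map_add, map_add, map_add, map_add, sq x hx, sq y hy] at hxy
  have e2 : Algebra.trace R S (2 * (x * y)) = 2 * Algebra.trace R S (x * y) := by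
    rw [two_mul, map_add, two_mul]
  rw [e2, map_mul (algebraMap R S), map_ofNat] at hxy
  have h2S : IsUnit (2 : S) := map_ofNat (algebraMap R S) 2 ▸ h2.map (algebraMap R S)
  exact h2S.mul_left_cancel (add_left_cancel hxy)

variable {X : Scheme.{u}} (A : RelSpec.QCAlg X)

theorem isUnit_two (h2 : IsUnit (2 : Γ(X, ⊤))) (U : X.Opens) : IsUnit (2 : Γ(X, U)) := by
  simpa using isUnit_natCast (d := 2) (by simpa using h2) U

/-- One half, as a function on an open. -/
noncomputable def half (h2 : IsUnit (2 : Γ(X, ⊤))) (U : X.Opens) : Γ(X, U) := ↑((isUnit_two h2 U).unit⁻¹)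

theorem two_mul_half (h2 : IsUnit (2 : Γ(X, ⊤))) (U : X.Opens) : 2 * half h2 U = 1 :=
  (isUnit_two h2 U).mul_val_inv

theorem res_half (h2 : IsUnit (2 : Γ(X, ⊤))) {U V : X.Opens} (i : V ⟶ U) :
    X.presheaf.map i.op (half h2 U) = half h2 V := by
  refine (isUnit_two h2 V).mul_left_cancel ?_
  rw [two_mul_half]
  have := congrArg (X.presheaf.map i.op).hom (two_mul_half h2 U)
  rw [map_mul, map_ofNat, map_one] at this
  exact this

/-- Sections of the algebra which are zero locally are zero. -/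
theorem eq_of_cover_alg {V : X.Opens} {s t : A.presheaf.obj (op V)}
    (h : ∀ x ∈ V, ∃ (W : X.Opens) (k : W ≤ V), x ∈ W ∧ resA A k s = resA A k t) : s = t := by
  choose W k hxW he using h
  exact TopCat.Sheaf.eq_of_locally_eq' (⟨A.presheaf, A.isSheaf⟩ : TopCat.Sheaf CommRingCat.{u} X.carrier)
    (fun x : V => W x.1 x.2) V (fun x => homOfLE (k x.1 x.2))
    (fun y hy => Opens.mem_iSup.2 ⟨⟨y, hy⟩, hxW y hy⟩) s t fun x => he x.1 x.2

variable {τ : A.toModule ⟶ Coh.structureModule X}

/-- The component of the trace, into functions. -/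
noncomputable def tauF (τ : A.toModule ⟶ Coh.structureModule X) (U : X.Opens) (a : A.presheaf.obj (op U)) :
    Γ(X, U) := (τ.app U).hom (a : Γ(A.toModule, U))

theorem tauF_add (τ : A.toModule ⟶ Coh.structureModule X) (U : X.Opens) (a b : A.presheaf.obj (op U)) :
    tauF A τ U (a + b) = tauF A τ U a + tauF A τ U b :=
  map_add (τ.app U).hom (a : Γ(A.toModule, U)) b

theorem tauF_smul (τ : A.toModule ⟶ Coh.structureModule X) (U : X.Opens) (r : Γ(X, U))
    (a : A.presheaf.obj (op U)) :
    tauF A τ U ((A.str.app (op U)).hom r * a) = r * tauF A τ U a :=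
  Scheme.Modules.Hom.app_smul τ r a

theorem tauF_res (τ : A.toModule ⟶ Coh.structureModule X) {U V : X.Opens} (k : V ≤ U)
    (a : A.presheaf.obj (op U)) : resO k (tauF A τ U a) = tauF A τ V (resA A k a) := app_res A τ k a

theorem two_mul_eq_of_trace_zero (hA : FlatMod.IsFinLocFreeOfRank 2 A.toModule)
    (hτ : FinCov.IsTrace A τ) (h2 : IsUnit (2 : Γ(X, ⊤))) (U : X.Opens) (x y : A.presheaf.obj (op U))
    (hx : tauF A τ U x = 0) (hy : tauF A τ U y = 0) :
    x * y = (A.str.app (op U)).hom (half h2 U * tauF A τ U (x * y)) := by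
  refine eq_of_cover_alg A fun p hp => ?_
  obtain ⟨W, k, hpW, hW, ⟨b⟩⟩ := exists_basis_le A hA hp
  refine ⟨W, k, hpW, ?_⟩
  let := alg A W
  have htr : ∀ a, tauF A τ W a = Algebra.trace Γ(X, W) (A.presheaf.obj (op W)) a :=
    fun a => hτ W hW.1 hW.2.1 hW.2.2 a
  have h0 : ∀ z : A.presheaf.obj (op U), tauF A τ U z = 0 →
      Algebra.trace Γ(X, W) (A.presheaf.obj (op W)) (resA A k z) = 0 := fun z hz => by
    rw [← htr, ← tauF_res A τ k, hz]; exact map_zero _
  have key := two_mul_of_trace_eq_zero b (isUnit_two h2 W) (h0 x hx) (h0 y hy)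
  have e1 : resA A k (x * y) = resA A k x * resA A k y := map_mul _ _ _
  have e2 : resO k (half h2 U * tauF A τ U (x * y)) =
      half h2 W * Algebra.trace Γ(X, W) (A.presheaf.obj (op W)) (resA A k x * resA A k y) := by
    rw [resO, map_mul, res_half, ← htr, ← e1, ← tauF_res A τ k]
  rw [resA_str, e2, e1, map_mul]
  refine Eq.trans ?_ (congrArg ((A.str.app (op W)).hom (half h2 W) * ·) key)
  rw [← mul_assoc, show (2 : A.presheaf.obj (op W)) = (A.str.app (op W)).hom 2 from (map_ofNat _ 2).symm,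
    ← map_mul (A.str.app (op W)).hom, mul_comm (half h2 W) 2, two_mul_half, map_one, one_mul]

/-- The pairing on the kernel of the trace. -/
noncomputable def kerPairing (τ : A.toModule ⟶ Coh.structureModule X) (h2 : IsUnit (2 : Γ(X, ⊤))) :
    Pairing (kernel τ) (kernel τ) (Coh.structureModule X) where
  f U l l' := (half h2 U * tauF A τ U
    (FinCov.toSec A ((kernel.ι τ).app U l) * FinCov.toSec A ((kernel.ι τ).app U l')) : Γ(X, U))
  add_left U m m' n := by
    rw [FinCov.toSec, map_add]
    show half h2 U * tauF A τ U ((_ + _ : A.presheaf.obj (op U)) * _) = _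
    rw [add_mul, tauF_add, mul_add]; rfl
  smul_left U r m n := by
    rw [FinCov.toSec, Scheme.Modules.Hom.app_smul]
    show half h2 U * tauF A τ U (((A.str.app (op U)).hom r * _ : A.presheaf.obj (op U)) * _) = r * _
    rw [mul_assoc, tauF_smul, mul_left_comm]
  add_right U m n n' := by
    rw [FinCov.toSec, FinCov.toSec, map_add]
    show half h2 U * tauF A τ U (_ * (_ + _ : A.presheaf.obj (op U))) = _
    rw [mul_add, tauF_add, mul_add]; rfl
  smul_right U r m n := by
    rw [FinCov.toSec, FinCov.toSec, Scheme.Modules.Hom.app_smul]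
    show half h2 U * tauF A τ U (_ * ((A.str.app (op U)).hom r * _ : A.presheaf.obj (op U))) = r * _
    rw [mul_left_comm _ ((A.str.app (op U)).hom r), tauF_smul, mul_left_comm]
  map {U V} i m n := by
    have hn : ∀ z, FinCov.toSec A ((kernel.ι τ).app V ((kernel τ).presheaf.map i.op z)) =
        resA A i.le (FinCov.toSec A ((kernel.ι τ).app U z)) :=
      fun z => congr($((kernel.ι τ).mapPresheaf.naturality i.op) z)
    rw [hn, hn]
    show resO i.le (half h2 U * _) = _
    rw [resO, map_mul, res_half]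
    refine congrArg (half h2 V * ·) ?_
    exact (tauF_res A τ i.le _).trans (congrArg (tauF A τ V) (map_mul (A.presheaf.map _).hom _ _))

theorem exists_isDblAlg (hA : FlatMod.IsFinLocFreeOfRank 2 A.toModule) (hτ : FinCov.IsTrace A τ)
    (h2 : IsUnit (2 : Γ(X, ⊤))) :
    FinCov.IsDblAlg (kernel τ) (kerPairing A τ h2).hom A (kernel.ι τ) := by
  have := isSplitEpi_trace A hA hτ (d := 2) (by simpa using h2)
  have hτι : ∀ U l, tauF A τ U (FinCov.toSec A ((kernel.ι τ).app U l)) = 0 :=
    fun U l => kernel_ι_app_zero τ U l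
  have hτs : ∀ U (s : Γ(X, U)), tauF A τ U ((A.str.app (op U)).hom s) = 2 * s :=
    fun U s => (app_trace_str A hA hτ U s).trans (by rw [nsmul_eq_mul]; rfl)
  refine ⟨fun U => ⟨?_, fun a => ?_⟩, fun U l l' => ?_⟩
  · rintro ⟨s, l⟩ ⟨s', l'⟩ h
    replace h : (A.str.app (op U)).hom s + FinCov.toSec A ((kernel.ι τ).app U l) =
      (A.str.app (op U)).hom s' + FinCov.toSec A ((kernel.ι τ).app U l') := h
    have h' := congrArg (tauF A τ U) h
    rw [tauF_add, tauF_add, hτι, hτι, add_zero, add_zero, hτs, hτs] at h'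
    obtain rfl := (isUnit_two h2 U).mul_left_cancel h'
    exact Prod.ext rfl ((kernel_app τ U).1 (add_left_cancel (G := A.presheaf.obj (op U)) h))
  · let s : Γ(X, U) := half h2 U * tauF A τ U a
    let z : A.presheaf.obj (op U) := a - (A.str.app (op U)).hom s
    have hz : tauF A τ U z = 0 := by
      have := tauF_add A τ U z ((A.str.app (op U)).hom s)
      rw [sub_add_cancel, hτs, ← mul_assoc, two_mul_half, one_mul] at this
      exact right_eq_add.mp this
    obtain ⟨l, hl⟩ := (kernel_app τ U).2 z hz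
    refine ⟨(s, l), ?_⟩
    show (A.str.app (op U)).hom s + FinCov.toSec A ((kernel.ι τ).app U l) = a
    rw [FinCov.toSec, hl]
    exact add_sub_cancel _ _
  · refine (two_mul_eq_of_trace_zero A hA hτ h2 U _ _ (hτι U l) (hτι U l')).trans ?_
    exact congrArg (A.str.app (op U)).hom ((kerPairing A τ h2).hom_tmul U l l').symm

theorem rank_two_of_isDblAlg {L : X.Modules} (hL : PicF.IsInvertible L)
    {m : CohB1.tensorMod L L ⟶ Coh.structureModule X} {j : L ⟶ A.toModule}
    (h : FinCov.IsDblAlg L m A j) :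
    FlatMod.IsFinLocFreeOfRank 2 A.toModule ∧ ∀ x : X, ∃ (U : X.Opens) (e : Fin 2 → Γ(A.toModule, U)) (l : Γ(L, U)),
      x ∈ U ∧ IsFrame A.toModule U e ∧ e 0 = (A.str.app (op U)).hom 1 ∧ e 1 = j.app U l ∧
      ∀ (V : X.Opens) (k : V ≤ U) (y : Γ(L, V)), ∃ c : Γ(X, V), c • L.presheaf.map (homOfLE k).op l = y := by
  classical
  have key : ∀ x : X, ∃ (U : X.Opens) (e : Fin 2 → Γ(A.toModule, U)) (l : Γ(L, U)),
      x ∈ U ∧ IsFrame A.toModule U e ∧ e 0 = (A.str.app (op U)).hom 1 ∧ e 1 = j.app U l ∧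
      ∀ (V : X.Opens) (k : V ≤ U) (y : Γ(L, V)), ∃ c : Γ(X, V), c • L.presheaf.map (homOfLE k).op l = y := by
    intro x
    obtain ⟨U₀, hx, ⟨φ⟩⟩ := hL x
    obtain ⟨e₀, he₀⟩ := exists_frame_of_iso (n := 1)
      (φ ≪≫ (coproductUniqueIso (fun _ : Fin 1 => Coh.structureModule (↑U₀))).symm)
    let U := U₀.ι ''ᵁ ⊤
    refine ⟨U, ![(A.str.app (op U)).hom 1, j.app U (e₀ 0)], e₀ 0,
      by rw [show U = U₀ from Scheme.Opens.ι_image_top _]; exact hx, fun V k => ?_, rfl, rfl,
      fun V k y => ?_⟩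
    · have hres0 : A.toModule.presheaf.map (homOfLE k).op ((A.str.app (op U)).hom 1) = (1 : A.presheaf.obj (op V)) := by
        show resA A k ((A.str.app (op U)).hom 1) = 1
        rw [map_one]; exact map_one _
      have hres1 : A.toModule.presheaf.map (homOfLE k).op (j.app U (e₀ 0)) =
          j.app V (L.presheaf.map (homOfLE k).op (e₀ 0)) :=
        (congr($(j.mapPresheaf.naturality (homOfLE k).op) (e₀ 0))).symm
      have hF : ∀ c : Fin 2 → Γ(X, V),
          ∑ i, c i • A.toModule.presheaf.map (homOfLE k).op (![(A.str.app (op U)).hom 1, j.app U (e₀ 0)] i) =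
            (A.str.app (op V)).hom (c 0) + FinCov.toSec A (j.app V (c 1 • L.presheaf.map (homOfLE k).op (e₀ 0))) := by
        intro c
        rw [Fin.sum_univ_two, FinCov.toSec, Scheme.Modules.Hom.app_smul]
        simp only [Matrix.cons_val_zero, Matrix.cons_val_one]
        rw [hres0, hres1]
        refine congrArg₂ (fun a b : A.presheaf.obj (op V) => a + b) ?_ rfl
        show (A.str.app (op V)).hom (c 0) * 1 = _
        rw [mul_one]
      refine Eq.mpr (congrArg Function.Bijective (funext hF)) ?_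
      have h1 : Function.Bijective (fun c : Fin 2 → Γ(X, V) => ((c 0, c 1 • L.presheaf.map (homOfLE k).op (e₀ 0)) : Γ(X, V) × Γ(L, V))) := by
        refine ⟨fun c c' e => ?_, fun p => ?_⟩
        · obtain ⟨e1, e2⟩ := Prod.mk.inj e
          have := (he₀ V k).1 (a₁ := fun _ => c 1) (a₂ := fun _ => c' 1) (by simpa using e2)
          funext i
          fin_cases i
          · exact e1
          · exact congrFun this 0
        · obtain ⟨c, hc⟩ := (he₀ V k).2 p.2
          exact ⟨![p.1, c 0], Prod.ext rfl (by simpa using hc)⟩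
      exact (h.1 V).comp h1
    · obtain ⟨c, hc⟩ := (he₀ V k).2 y
      exact ⟨c 0, by simpa using hc⟩
  refine ⟨fun x => ?_, key⟩
  obtain ⟨U, e, l, hx, he, -⟩ := key x
  exact ⟨U, hx, exists_iso_of_frame he⟩

theorem trace_j_eq_zero {L : X.Modules} (hL : PicF.IsInvertible L)
    {m : CohB1.tensorMod L L ⟶ Coh.structureModule X} {j : L ⟶ A.toModule}
    (h : FinCov.IsDblAlg L m A j) (hτ : FinCov.IsTrace A τ) (V : X.Opens) (y : Γ(L, V)) :
    tauF A τ V (FinCov.toSec A (j.app V y)) = 0 := by
  classical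
  refine eq_of_cover fun x hx => ?_
  obtain ⟨U, e, l, hxU, he, he0, he1, hl⟩ := (rank_two_of_isDblAlg A hL h).2 x
  obtain ⟨_, ⟨W, hW, rfl⟩, hxW, hWUV⟩ :=
    X.isBasis_affineOpens.exists_subset_of_mem_open (show x ∈ U ⊓ V from ⟨hxU, hx⟩) (U ⊓ V).2
  have hWU : W ≤ U := fun p hp => (hWUV hp).1
  have hWV : W ≤ V := fun p hp => (hWUV hp).2
  refine ⟨W, hWV, hxW, ?_⟩
  obtain ⟨c, hc⟩ := hl W hWU (L.presheaf.map (homOfLE hWV).op y)
  have hy : resA A hWV (FinCov.toSec A (j.app V y)) =
      (A.str.app (op W)).hom c * FinCov.toSec A (j.app W (L.presheaf.map (homOfLE hWU).op l)) := by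
    refine Eq.trans ?_ (Scheme.Modules.Hom.app_smul j c _)
    rw [hc]
    exact (congr($(j.mapPresheaf.naturality (homOfLE hWV).op) y)).symm
  rw [tauF_res, hy, tauF_smul]
  refine Eq.trans ?_ (map_zero _).symm
  set w := L.presheaf.map (homOfLE hWU).op l
  let := alg A W
  let B : Module.Basis (Fin 2) Γ(X, W) (A.presheaf.obj (op W)) := he.basis W hWU
  have hB0 : B 0 = 1 := by
    show he.basis W hWU 0 = _
    rw [IsFrame.basis_apply, he0]
    show resA A hWU ((A.str.app (op U)).hom 1) = 1
    rw [map_one]; exact map_one _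
  have hB1 : B 1 = FinCov.toSec A (j.app W w) := by
    show he.basis W hWU 1 = _
    rw [IsFrame.basis_apply, he1]
    exact (congr($(j.mapPresheaf.naturality (homOfLE hWU).op) l)).symm
  have htr : tauF A τ W (FinCov.toSec A (j.app W w)) = Algebra.trace Γ(X, W) (A.presheaf.obj (op W)) (B 1) := by
    rw [hB1]
    exact hτ W hW (Module.Free.of_basis B) (Module.Finite.of_basis B) _
  rw [htr, Algebra.trace_eq_matrix_trace B, Matrix.trace_fin_two, Algebra.leftMulMatrix_eq_repr_mul,
    Algebra.leftMulMatrix_eq_repr_mul]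
  have h10 : B 1 * B 0 = B 1 := by rw [hB0, mul_one]
  have h11 : B 1 * B 1 = (show Γ(X, W) from m.app W (SecTwist.tmul L L W w w)) • B 0 := by
    rw [hB1, hB0, Algebra.smul_def, mul_one]
    exact h.2 W w w
  simp [h10, h11, Finsupp.single_apply]

end GrothLib.FinCov
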