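import Groth.Agent.Lib.InvExt.FiniteFibre
import Groth.Agent.Lib.InvExt.Transfer
import Groth.Agent.Lib.QCoh.Affine
import Groth.Prelude.Def_FinCov
import Mathlib.Topology.Sheaves.SheafCondition.UniqueGluing

/-!
The algebra `O ⊕ L` of an invertible module with a pairing, and its local freeness.
-/

set_option linter.style.haveILetI false

universe u

open CategoryTheory Limits AlgebraicGeometry Opposite TopologicalSpace TensorProduct

namespace GrothLib.FinCov

variable {X : Scheme.{u}} (L : X.Modules) (m : CohB1.tensorMod L L ⟶ Coh.structureModule X)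

/-- The pairing on sections. -/
noncomputable def pairVal (U : X.Opens) (l l' : Γ(L, U)) : Γ(X, U) :=
  (m.val.app (op U)).hom (SecTwist.tmul L L U l l')

theorem pairVal_add_left (U : X.Opens) (a b c : Γ(L, U)) :
    pairVal L m U (a + b) c = pairVal L m U a c + pairVal L m U b c := by
  show (m.val.app (op U)).hom (((SecTwist.toTensor L L).app (op U)).hom _) = _
  erw [TensorProduct.add_tmul, map_add, map_add]
  rfl

theorem pairVal_add_right (U : X.Opens) (a b c : Γ(L, U)) :
    pairVal L m U a (b + c) = pairVal L m U a b + pairVal L m U a c := by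
  show (m.val.app (op U)).hom (((SecTwist.toTensor L L).app (op U)).hom _) = _
  erw [TensorProduct.tmul_add, map_add, map_add]
  rfl

theorem pairVal_tensor_smul (U : X.Opens) (r : Γ(X, U)) (t : (CohB1.tensorPre L L).obj (op U)) :
    (m.val.app (op U)).hom (((SecTwist.toTensor L L).app (op U)).hom
      ((show (X.sheaf.obj ⋙ forget₂ CommRingCat RingCat).obj (op U) from r) • t)) =
      r * (show Γ(X, U) from (m.val.app (op U)).hom (((SecTwist.toTensor L L).app (op U)).hom t)) :=
  (congrArg _ (LinearMap.map_smul _ _ _)).trans (LinearMap.map_smul _ _ _)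

theorem pairVal_smul_left (U : X.Opens) (r : Γ(X, U)) (a c : Γ(L, U)) :
    pairVal L m U (r • a) c = r * pairVal L m U a c :=
  pairVal_tensor_smul L m U r (a ⊗ₜ[Γ(X, U)] c)

theorem pairVal_smul_right (U : X.Opens) (r : Γ(X, U)) (a c : Γ(L, U)) :
    pairVal L m U a (r • c) = r * pairVal L m U a c := by
  rw [← pairVal_smul_left L m U r a c]
  have h : a ⊗ₜ[Γ(X, U)] (r • c) = (r • a) ⊗ₜ[Γ(X, U)] c :=
    (TensorProduct.tmul_smul r a c).trans (TensorProduct.smul_tmul' r a c)
  exact congrArg (fun t : Γ(L, U) ⊗[Γ(X, U)] Γ(L, U) =>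
    (m.val.app (op U)).hom (((SecTwist.toTensor L L).app (op U)).hom t)) h

theorem pairVal_res {U V : X.Opens} (i : V ⟶ U) (a b : Γ(L, U)) :
    X.presheaf.map i.op (pairVal L m U a b) =
      pairVal L m V (L.presheaf.map i.op a) (L.presheaf.map i.op b) := by
  show _ = (m.val.app (op V)).hom (SecTwist.tmul L L V (L.val.map i.op a) (L.val.map i.op b))
  rw [← SecTwist.map_tmul]
  exact (PresheafOfModules.naturality_apply m.val i.op _).symm

section comm

variable {L} (hL : PicF.IsInvertible L)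
include hL

theorem pairVal_comm (U : X.Opens) (a b : Γ(L, U)) : pairVal L m U a b = pairVal L m U b a := by
  choose V e hV he using fun x : X => InvExt.exists_gen_nhd hL x
  refine X.sheaf.eq_of_locally_eq' (fun x : X => U ⊓ V x) U (fun x => homOfLE inf_le_left)
    (fun y hy => Opens.mem_iSup.mpr ⟨y, hy, hV y⟩) _ _ fun x => ?_
  show X.presheaf.map _ _ = X.presheaf.map _ _
  rw [pairVal_res, pairVal_res]
  obtain ⟨r, hr⟩ := (he x).exists_smul_eq inf_le_right (L.presheaf.map (homOfLE inf_le_left : U ⊓ V x ⟶ U).op a)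
  obtain ⟨s, hs⟩ := (he x).exists_smul_eq inf_le_right (L.presheaf.map (homOfLE inf_le_left : U ⊓ V x ⟶ U).op b)
  rw [hr, hs, pairVal_smul_left, pairVal_smul_right, pairVal_smul_left, pairVal_smul_right]
  exact mul_left_comm _ _ _

theorem pairVal_assoc (U : X.Opens) (a b c : Γ(L, U)) :
    pairVal L m U a b • c = pairVal L m U b c • a := by
  choose V e hV he using fun x : X => InvExt.exists_gen_nhd hL x
  refine TopCat.Sheaf.eq_of_locally_eq' ⟨L.presheaf, L.isSheaf⟩ (fun x : X => U ⊓ V x) U
    (fun x => homOfLE inf_le_left) (fun y hy => Opens.mem_iSup.mpr ⟨y, hy, hV y⟩) _ _ fun x => ?_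
  show L.presheaf.map _ _ = L.presheaf.map _ _
  rw [Scheme.Modules.map_smul, Scheme.Modules.map_smul, pairVal_res, pairVal_res]
  obtain ⟨r, hr⟩ := (he x).exists_smul_eq inf_le_right (L.presheaf.map (homOfLE inf_le_left : U ⊓ V x ⟶ U).op a)
  obtain ⟨s, hs⟩ := (he x).exists_smul_eq inf_le_right (L.presheaf.map (homOfLE inf_le_left : U ⊓ V x ⟶ U).op b)
  obtain ⟨t, ht⟩ := (he x).exists_smul_eq inf_le_right (L.presheaf.map (homOfLE inf_le_left : U ⊓ V x ⟶ U).op c)
  rw [hr, hs, ht, pairVal_smul_left, pairVal_smul_right, pairVal_smul_left, pairVal_smul_right, smul_smul,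
    smul_smul]
  congr 1
  ring

end comm

variable {L} (hL : PicF.IsInvertible L)

/-- Sections of `O ⊕ L`. -/
def DblSec (L : X.Modules) (_ : CohB1.tensorMod L L ⟶ Coh.structureModule X) (_ : PicF.IsInvertible L)
    (U : X.Opens) : Type u := Γ(X, U) × Γ(L, U)

namespace DblSec

variable {m} {hL} {U : X.Opens}

noncomputable instance : AddCommGroup (DblSec L m hL U) :=
  inferInstanceAs (AddCommGroup (Γ(X, U) × Γ(L, U)))

/-- Constructor. -/
def mk (a : Γ(X, U)) (l : Γ(L, U)) : DblSec L m hL U := (a, l)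

/-- The function part. -/
def fn (p : DblSec L m hL U) : Γ(X, U) := Prod.fst p

/-- The module part. -/
def lin (p : DblSec L m hL U) : Γ(L, U) := Prod.snd p

theorem ext' {p q : DblSec L m hL U} (h1 : p.fn = q.fn) (h2 : p.lin = q.lin) : p = q := Prod.ext h1 h2

theorem fn_add (p q : DblSec L m hL U) : (p + q).fn = p.fn + q.fn := rfl
theorem lin_add (p q : DblSec L m hL U) : (p + q).lin = p.lin + q.lin := rfl
theorem fn_mk (a : Γ(X, U)) (l : Γ(L, U)) : (mk a l : DblSec L m hL U).fn = a := rfl
theorem lin_mk (a : Γ(X, U)) (l : Γ(L, U)) : (mk a l : DblSec L m hL U).lin = l := rfl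
theorem fn_zero : (0 : DblSec L m hL U).fn = 0 := rfl
theorem lin_zero : (0 : DblSec L m hL U).lin = 0 := rfl

noncomputable instance : Mul (DblSec L m hL U) :=
  ⟨fun p q => mk (p.fn * q.fn + pairVal L m U p.lin q.lin) (p.fn • q.lin + q.fn • p.lin)⟩

noncomputable instance : One (DblSec L m hL U) := ⟨mk 1 0⟩

theorem fn_mul (p q : DblSec L m hL U) : (p * q).fn = p.fn * q.fn + pairVal L m U p.lin q.lin := rfl
theorem lin_mul (p q : DblSec L m hL U) : (p * q).lin = p.fn • q.lin + q.fn • p.lin := rfl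
theorem fn_one : (1 : DblSec L m hL U).fn = 1 := rfl
theorem lin_one : (1 : DblSec L m hL U).lin = 0 := rfl

theorem pairVal_zero_left (a : Γ(L, U)) : pairVal L m U 0 a = 0 := by
  have := pairVal_smul_left L m U 0 0 a
  rwa [zero_smul, zero_mul] at this

theorem pairVal_zero_right (a : Γ(L, U)) : pairVal L m U a 0 = 0 := by
  have := pairVal_smul_right L m U 0 a 0
  rwa [zero_smul, zero_mul] at this

noncomputable instance : CommRing (DblSec L m hL U) where
  __ := (inferInstance : AddCommGroup (DblSec L m hL U))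
  left_distrib p q r := ext'
    (by simp only [fn_mul, fn_add, lin_add, pairVal_add_right]; ring)
    (by simp only [lin_mul, fn_add, lin_add, smul_add, add_smul]; abel)
  right_distrib p q r := ext'
    (by simp only [fn_mul, fn_add, lin_add, pairVal_add_left]; ring)
    (by simp only [lin_mul, fn_add, lin_add, smul_add, add_smul]; abel)
  zero_mul p := ext' (by simp [fn_mul, fn_zero, lin_zero, pairVal_zero_left])
    (by simp [lin_mul, fn_zero, lin_zero])
  mul_zero p := ext' (by simp [fn_mul, fn_zero, lin_zero, pairVal_zero_right])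
    (by simp [lin_mul, fn_zero, lin_zero])
  one_mul p := ext' (by simp [fn_mul, fn_one, lin_one, pairVal_zero_left])
    (by simp [lin_mul, fn_one, lin_one])
  mul_one p := ext' (by simp [fn_mul, fn_one, lin_one, pairVal_zero_right])
    (by simp [lin_mul, fn_one, lin_one])
  mul_comm p q := ext' (by rw [fn_mul, fn_mul, pairVal_comm m hL, mul_comm p.fn])
    (by rw [lin_mul, lin_mul, add_comm])
  mul_assoc p q r := ext'
    (by
      simp only [fn_mul, lin_mul, pairVal_add_left, pairVal_add_right, pairVal_smul_left, pairVal_smul_right]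
      ring)
    (by
      simp only [fn_mul, lin_mul, smul_add, add_smul, smul_smul]
      rw [pairVal_assoc m hL U p.lin q.lin r.lin, mul_comm r.fn p.fn, mul_comm r.fn q.fn]
      abel)

/-- Restriction. -/
noncomputable def res {V : X.Opens} (i : V ⟶ U) : DblSec L m hL U →+* DblSec L m hL V where
  toFun p := mk (X.presheaf.map i.op p.fn) (L.presheaf.map i.op p.lin)
  map_zero' := ext' (map_zero _) (map_zero _)
  map_one' := ext' (map_one (X.presheaf.map i.op).hom) (map_zero _)
  map_add' p q := ext' (map_add _ _ _) (map_add _ _ _)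
  map_mul' p q := ext'
    (by simp only [fn_mk, fn_mul, lin_mk, map_add, map_mul, pairVal_res])
    (by simp only [fn_mk, lin_mk, lin_mul, map_add, Scheme.Modules.map_smul])

end DblSec

/-- The presheaf of rings `O ⊕ L`. -/
noncomputable def dblPresheaf : TopCat.Presheaf CommRingCat.{u} X.carrier where
  obj U := CommRingCat.of (DblSec L m hL U.unop)
  map i := CommRingCat.ofHom (DblSec.res i.unop)
  map_id U := by
    refine CommRingCat.hom_ext (RingHom.ext fun p => (DblSec.ext' (m := m) (hL := hL)) ?_ ?_)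
    · show X.presheaf.map (𝟙 U) (DblSec.fn (m := m) (hL := hL) p) = _
      rw [X.presheaf.map_id]; rfl
    · show L.presheaf.map (𝟙 U) (DblSec.lin (m := m) (hL := hL) p) = _
      rw [L.presheaf.map_id]; rfl
  map_comp i j := by
    refine CommRingCat.hom_ext (RingHom.ext fun p => (DblSec.ext' (m := m) (hL := hL)) ?_ ?_)
    · show X.presheaf.map (i ≫ j) (DblSec.fn (m := m) (hL := hL) p) = _
      rw [X.presheaf.map_comp]; rfl
    · show L.presheaf.map (i ≫ j) (DblSec.lin (m := m) (hL := hL) p) = _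
      rw [L.presheaf.map_comp]; rfl

theorem dblPresheaf_isSheaf : (dblPresheaf m hL).IsSheaf := by
  refine (TopCat.Presheaf.isSheaf_iff_isSheafUniqueGluing _).mpr fun ι U sf hsf => ?_
  obtain ⟨a, ha, hau⟩ := X.sheaf.existsUnique_gluing U (fun i => DblSec.fn (m := m) (hL := hL) (sf i))
    fun i j => congrArg (DblSec.fn (m := m) (hL := hL) (U := _)) (hsf i j)
  obtain ⟨l, hl, hlu⟩ := TopCat.Sheaf.existsUnique_gluing ⟨L.presheaf, L.isSheaf⟩ U (fun i => DblSec.lin (m := m) (hL := hL) (sf i))
    fun i j => congrArg (DblSec.lin (m := m) (hL := hL) (U := _)) (hsf i j)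
  exact ⟨DblSec.mk a l, fun i => (DblSec.ext' (m := m) (hL := hL)) (ha i) (hl i),
    fun t ht => (DblSec.ext' (m := m) (hL := hL)) (hau _ fun i => congrArg (DblSec.fn (m := m) (hL := hL) (U := _)) (ht i))
      (hlu _ fun i => congrArg (DblSec.lin (m := m) (hL := hL) (U := _)) (ht i))⟩

/-- The structure map. -/
noncomputable def dblStr : X.presheaf ⟶ dblPresheaf m hL where
  app U := CommRingCat.ofHom
    { toFun := fun a => (DblSec.mk a 0 : DblSec L m hL U.unop)
      map_zero' := rfl
      map_one' := rfl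
      map_add' := fun a b => (DblSec.ext' (m := m) (hL := hL)) rfl (add_zero _).symm
      map_mul' := fun a b => (DblSec.ext' (m := m) (hL := hL))
        (by simp [DblSec.fn_mul, DblSec.fn_mk, DblSec.lin_mk, DblSec.pairVal_zero_left])
        (by simp [DblSec.lin_mul, DblSec.fn_mk, DblSec.lin_mk]) }
  naturality U V i := CommRingCat.hom_ext (RingHom.ext fun a => (DblSec.ext' (m := m) (hL := hL)) rfl (map_zero _).symm)

theorem dblPresheaf_isQC : RelSpec.IsQC (dblPresheaf m hL) (dblStr m hL) := by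
  intro U hU r
  haveI := InvExt.isQuasicoherent_of_isInvertible hL
  obtain ⟨hlift, hsep⟩ := QCoh.smulLift_and_smulSep_of_isAffineOpen hU L r
  haveI := hU.isLocalization_basicOpen r
  let V := X.basicOpen r
  let i : V ⟶ U := homOfLE (X.basicOpen_le r)
  letI alg : Algebra (DblSec L m hL U) (DblSec L m hL V) := (DblSec.res i).toAlgebra
  show IsLocalization.Away (DblSec.mk r 0 : DblSec L m hL U) (DblSec L m hL V)
  have hpow : ∀ n : ℕ, (DblSec.mk r 0 : DblSec L m hL U) ^ n = DblSec.mk (r ^ n) 0 := fun n =>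
    (map_pow ((dblStr m hL).app (op U)).hom r n).symm
  have hmul : ∀ (W : X.Opens) (c : Γ(X, W)) (p : DblSec L m hL W),
      p * DblSec.mk c 0 = DblSec.mk (p.fn * c) (c • p.lin) := fun W c p => (DblSec.ext' (m := m) (hL := hL))
    (by simp [DblSec.fn_mul, DblSec.fn_mk, DblSec.lin_mk, DblSec.pairVal_zero_right])
    (by simp [DblSec.lin_mul, DblSec.fn_mk, DblSec.lin_mk])
  refine (isLocalization_iff _ _).mpr ⟨?_, ?_, ?_⟩
  · rintro ⟨_, n, rfl⟩
    show IsUnit (DblSec.res i _)
    rw [map_pow]
    refine IsUnit.pow n ?_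
    have h : DblSec.res i (DblSec.mk r 0 : DblSec L m hL U) =
        ((dblStr m hL).app (op V)).hom (X.presheaf.map i.op r) := (DblSec.ext' (m := m) (hL := hL)) rfl (map_zero _)
    rw [h]
    exact (X.toRingedSpace.isUnit_res_basicOpen r).map _
  · intro z
    obtain ⟨⟨a, ⟨_, n₁, rfl⟩⟩, ha⟩ := IsLocalization.surj (Submonoid.powers r) z.fn
    obtain ⟨n₂, t, ht⟩ := hlift z.lin
    change z.fn * X.presheaf.map i.op (r ^ n₁) = X.presheaf.map i.op a at ha
    change L.presheaf.map i.op t = (X.presheaf.map i.op r) ^ n₂ • z.lin at ht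
    refine ⟨(DblSec.mk (a * r ^ n₂) (r ^ n₁ • t), ⟨_, n₁ + n₂, rfl⟩), ?_⟩
    show z * DblSec.res i ((DblSec.mk r 0 : DblSec L m hL U) ^ (n₁ + n₂)) = DblSec.res i (DblSec.mk _ _)
    rw [hpow, show DblSec.res i (DblSec.mk (r ^ (n₁ + n₂)) 0 : DblSec L m hL U) =
      DblSec.mk (X.presheaf.map i.op (r ^ (n₁ + n₂))) 0 from (DblSec.ext' (m := m) (hL := hL)) rfl (map_zero _), hmul]
    refine (DblSec.ext' (m := m) (hL := hL)) ?_ ?_
    · show z.fn * X.presheaf.map i.op (r ^ (n₁ + n₂)) = X.presheaf.map i.op (a * r ^ n₂)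
      rw [pow_add, map_mul, map_mul, ← ha]; ring
    · show X.presheaf.map i.op (r ^ (n₁ + n₂)) • z.lin = L.presheaf.map i.op (r ^ n₁ • t)
      rw [Scheme.Modules.map_smul, ht, smul_smul, pow_add, map_mul, map_pow, map_pow]
  · intro p q hpq
    change DblSec.res i p = DblSec.res i q at hpq
    obtain ⟨⟨_, n₁, rfl⟩, hc⟩ := IsLocalization.exists_of_eq (M := Submonoid.powers r) (S := Γ(X, V))
      (x := p.fn) (y := q.fn) (congrArg (DblSec.fn (m := m) (hL := hL) (U := _)) hpq)
    change r ^ n₁ * p.fn = r ^ n₁ * q.fn at hc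
    obtain ⟨n₂, ht⟩ := hsep (p.lin - q.lin) (by rw [map_sub, sub_eq_zero]; exact congrArg (DblSec.lin (m := m) (hL := hL) (U := _)) hpq)
    refine ⟨⟨_, n₁ + n₂, rfl⟩, ?_⟩
    show (DblSec.mk r 0 : DblSec L m hL U) ^ (n₁ + n₂) * p = (DblSec.mk r 0 : DblSec L m hL U) ^ (n₁ + n₂) * q
    rw [hpow, mul_comm _ p, mul_comm _ q, hmul, hmul]
    refine (DblSec.ext' (m := m) (hL := hL)) ?_ ?_
    · show p.fn * r ^ (n₁ + n₂) = q.fn * r ^ (n₁ + n₂)
      rw [pow_add]; linear_combination (r ^ n₂) * hc
    · show r ^ (n₁ + n₂) • p.lin = r ^ (n₁ + n₂) • q.lin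
      rw [← sub_eq_zero, ← smul_sub, pow_add, mul_smul, ht, smul_zero]

/-- The algebra `O ⊕ L`. -/
noncomputable def dblAlg : RelSpec.QCAlg X where
  presheaf := dblPresheaf m hL
  isSheaf := dblPresheaf_isSheaf m hL
  str := dblStr m hL
  isQC := dblPresheaf_isQC m hL

/-- The inclusion of `L`. -/
noncomputable def dblIncl : L ⟶ (dblAlg m hL).toModule :=
  ⟨letI := (dblAlg m hL).moduleSect
   PresheafOfModules.homMk
    { app := fun U => AddCommGrpCat.ofHom
        { toFun := fun l => ((DblSec.mk 0 l : DblSec L m hL U.unop) : (dblPresheaf m hL).obj U)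
          map_zero' := rfl
          map_add' := fun a b => (DblSec.ext' (m := m) (hL := hL)) (zero_add _).symm rfl }
      naturality := fun U V i => by
        ext l
        exact (DblSec.ext' (m := m) (hL := hL)) (map_zero (X.presheaf.map i).hom).symm rfl }
    (fun U r l => (DblSec.ext' (m := m) (hL := hL))
      (by
        show (0 : Γ(X, U.unop)) = (show Γ(X, U.unop) from r) * 0 + pairVal L m U.unop 0 l
        rw [DblSec.pairVal_zero_left, mul_zero, add_zero])
      (by
        show (show Γ(X, U.unop) from r) • (show Γ(L, U.unop) from l) =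
          (show Γ(X, U.unop) from r) • (show Γ(L, U.unop) from l) + (0 : Γ(X, U.unop)) • (0 : Γ(L, U.unop))
        rw [zero_smul, add_zero]))⟩

theorem isDblAlg_dblAlg : FinCov.IsDblAlg L m (dblAlg m hL) (dblIncl m hL) := by
  refine ⟨fun U => ⟨fun p q h => ?_, fun z => ⟨(DblSec.fn (m := m) (hL := hL) z, DblSec.lin (m := m) (hL := hL) z), ?_⟩⟩, fun U l l' => ?_⟩
  · have h1 := congrArg (DblSec.fn (m := m) (hL := hL) (U := _)) h
    have h2 := congrArg (DblSec.lin (m := m) (hL := hL) (U := _)) h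
    change p.1 + 0 = q.1 + 0 at h1
    change 0 + p.2 = 0 + q.2 at h2
    rw [add_zero, add_zero] at h1
    rw [zero_add, zero_add] at h2
    exact Prod.ext h1 h2
  · exact (DblSec.ext' (m := m) (hL := hL)) (add_zero _) (zero_add _)
  · refine (DblSec.ext' (m := m) (hL := hL)) ?_ ?_
    · show (0 : Γ(X, U)) * 0 + pairVal L m U l l' = pairVal L m U l l'
      rw [zero_mul, zero_add]
    · show (0 : Γ(X, U)) • (show Γ(L, U) from l') + (0 : Γ(X, U)) • (show Γ(L, U) from l) = 0
      rw [zero_smul, zero_smul, add_zero]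

include hL in
theorem isFinLocFreeOfRank_two (A : RelSpec.QCAlg X) (j : L ⟶ A.toModule)
    (h : FinCov.IsDblAlg L m A j) : FlatMod.IsFinLocFreeOfRank 2 A.toModule := fun x => by
  obtain ⟨V, e, hx, he⟩ := InvExt.exists_gen_nhd hL x
  let one' : Γ(A.toModule, V) := (A.str.app (op V)).hom 1
  refine ⟨V, hx, exists_iso_of_frame (e := ![one', j.app V e]) fun W hW => ?_⟩
  have hb := (h.1 W).comp ((Function.bijective_id (α := Γ(X, W))).prodMap (he W hW))
  have heq : (fun c : Fin 2 → Γ(X, W) => ∑ i, c i • A.toModule.presheaf.map (homOfLE hW).op (![one', j.app V e] i)) =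
      (fun p : Γ(X, W) × L.val.obj (op W) =>
        (A.str.app (op W)).hom p.1 + FinCov.toSec A ((j.val.app (op W)).hom p.2)) ∘
      Prod.map id (fun c : Γ(X, W) => c • InvExt.mres L hW e) ∘ (piFinTwoEquiv fun _ => Γ(X, W)) := by
    funext c
    simp only [Fin.sum_univ_two, Matrix.cons_val_zero, Matrix.cons_val_one, Function.comp_apply,
      piFinTwoEquiv_apply, Prod.map_apply, id]
    congr 1
    · show (A.str.app (op W)).hom (c 0) * A.presheaf.map (homOfLE hW).op ((A.str.app (op V)).hom 1) = _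
      rw [map_one, map_one, mul_one]
    · show c 1 • A.toModule.presheaf.map (homOfLE hW).op (j.app V e) = j.app W (c 1 • InvExt.mres L hW e)
      rw [Scheme.Modules.Hom.app_smul, ← InvExt.mres_app]
  rw [heq]
  exact hb.comp (piFinTwoEquiv fun _ => Γ(X, W)).bijective

end GrothLib.FinCov
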